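import Cfsg.Agent.H40.HT.Cons
import Mathlib.GroupTheory.FiniteAbelian.Duality
import Mathlib.GroupTheory.Sylow

/-!
# S4933: lower bounds for `a` (helper40)

* `Low p S m` : `S` has subgroups `A`, `X`, `Z₀ ≤ A`, `A` abelian, normalized by `X`, `A ⊔ X` a `p`-group, `|X| = m`, and
  `z ∈ A ∖ Z₀` (`Z₀` normalized by `X` not needed) such that every `x ∈ X ∖ 1` has `y ∈ A` with `[x, y] ∈ z Z₀`;
* `Low.exists_irr` : then `A ⊔ X` has an irreducible character of degree at least `m`;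
* `Low.le` : if `S ≃* N ≤ A` and the Sylow `p`-subgroups of `A` have the degrees `1, p ^ a`, then `m ≤ p ^ a`.
-/

set_option autoImplicit false

open scoped ComplexConjugate
open Cfsg

namespace Cfsg.Agent.H40.HT

open Cfsg.Agent.Characters Cfsg.Agent.Characters.Core Cfsg.Agent.Characters.Clifford Cfsg.Agent.H316.HT

universe u v w

/-- the lower bound data -/
def Low (p : ℕ) (S : Type v) [Group S] (m : ℕ) : Prop :=
  ∃ A X Z₀ : Subgroup S, IsPGroup p ↥(A ⊔ X) ∧ (∀ x ∈ X, ∀ y ∈ A, x * y * x⁻¹ ∈ A) ∧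
    (∀ x ∈ A, ∀ y ∈ A, x * y = y * x) ∧ Z₀ ≤ A ∧
    (∃ z ∈ A, z ∉ Z₀ ∧ ∀ x ∈ X, x ≠ 1 → ∃ y ∈ A, ∃ w ∈ Z₀, x * y * x⁻¹ * y⁻¹ = z * w) ∧ Nat.card X = m

theorem Low.of_heis {p : ℕ} {S : Type v} [Group S] {m : ℕ} (A X : Subgroup S) (h1 : IsPGroup p ↥(A ⊔ X))
    (h2 : ∀ x ∈ X, ∀ y ∈ A, x * y * x⁻¹ ∈ A) (h3 : ∀ x ∈ A, ∀ y ∈ A, x * y = y * x) (z : S) (hz : z ∈ A)
    (hz1 : z ≠ 1) (h4 : ∀ x ∈ X, x ≠ 1 → ∃ y ∈ A, x * y * x⁻¹ * y⁻¹ = z) (h5 : Nat.card X = m) : Low p S m :=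
  ⟨A, X, ⊥, h1, h2, h3, bot_le, ⟨z, hz, fun h => hz1 (Subgroup.mem_bot.1 h), fun x hx hx1 => by
    obtain ⟨y, hy, h⟩ := h4 x hx hx1
    exact ⟨y, hy, 1, Subgroup.one_mem _, by rw [mul_one, h]⟩⟩, h5⟩

/-- a linear character of an abelian group which is trivial on `Z₀` and not at `z` -/
theorem exists_lam {A : Type u} [Group A] [Finite A] (hab : ∀ x y : A, x * y = y * x) (Z₀ : Subgroup A) {z : A}
    (hz : z ∉ Z₀) : ∃ lam : A →* ℂˣ, (∀ w ∈ Z₀, lam w = 1) ∧ lam z ≠ 1 := by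
  let _ : CommGroup A := { (inferInstance : Group A) with mul_comm := hab }
  have h1 : (QuotientGroup.mk z : A ⧸ Z₀) ≠ 1 := by
    intro h
    exact hz ((QuotientGroup.eq_one_iff z).1 h)
  obtain ⟨l, hl⟩ := CommGroup.exists_apply_ne_one_of_hasEnoughRootsOfUnity (A ⧸ Z₀) ℂ h1
  refine ⟨l.comp (QuotientGroup.mk' Z₀), fun w hw => ?_, hl⟩
  rw [MonoidHom.comp_apply]
  have : QuotientGroup.mk' Z₀ w = 1 := (QuotientGroup.eq_one_iff w).2 hw
  rw [this, map_one]

/-- **Clifford bound** -/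
theorem exists_irr_of_lam {H : Type u} [Group H] [Finite H] (A X : Subgroup H) [A.Normal]
    (lam : A →* ℂˣ) (hX : ∀ x ∈ X, x ≠ 1 → ∃ y : A, lam (MulAut.conjNormal x y) ≠ lam y) :
    ∃ θ : IrrCharacter H, Nat.card X ≤ charDegree (θ : H → ℂ) := by
  classical
  have := Fintype.ofFinite H
  have := Fintype.ofFinite A
  have hf : Finite (IrrCharacter H) := finite_irr
  have : Fintype (IrrCharacter H) := Fintype.ofFinite _
  have hf' : Finite (IrrCharacter A) := finite_irr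
  have : Fintype (IrrCharacter A) := Fintype.ofFinite _
  let L : A → ℂ := fun y => ((lam y : ℂˣ) : ℂ)
  have hL : IsIrrCharacter A L := Linear.isIrrCharacter_hom lam
  obtain ⟨m, hm⟩ := exists_nat_comb (Brauer.isCharacter_indFun A (isIrr_isCharacter hL))
  have hne : ∃ θ : IrrCharacter H, m θ ≠ 0 := by
    by_contra hc
    push Not at hc
    have h1 := congrFun hm 1
    simp only [hc, zero_smul, Finset.sum_const_zero, Pi.zero_apply] at h1
    rw [OddOrderCharacters.IndRes.indFun_apply_one] at h1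
    have h2 : L 1 = 1 := by simp [L]
    rw [h2, mul_one] at h1
    exact Subgroup.index_ne_zero_of_finite (H := A) (by exact_mod_cast h1)
  obtain ⟨θ, hθ⟩ := hne
  refine ⟨θ, ?_⟩
  have h0 : classInner (fun y : A => (θ : H → ℂ) y) L ≠ 0 := by
    have h1 := Cfsg.Agent.OddOrderCharacters.Clifford.classInner_indFun A L (θ : H → ℂ)
      (isIrr_isClassFunction θ.2)
    rw [hm, classInner_sum_nsmul_irr] at h1
    have h2 := classInner_conj_symm L (fun y : A => (θ : H → ℂ) y)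
    rw [← h1, map_natCast] at h2
    rw [← h2]
    exact_mod_cast hθ
  have hconj : ∀ x : H, IsIrrCharacter A (L ∘ (MulAut.conjNormal x : MulAut A)) := fun x => isIrr_conjNormal hL x
  let F : X → IrrCharacter A := fun x => ⟨L ∘ (MulAut.conjNormal (x : H) : MulAut A), hconj x⟩
  have hinj : Function.Injective F := by
    intro x x' hxx
    by_contra hne
    have h2 : (x : H) * (x' : H)⁻¹ ≠ 1 := by
      intro h
      exact hne (Subtype.ext (mul_inv_eq_one.1 h))
    obtain ⟨y, hy⟩ := hX _ (X.mul_mem x.2 (X.inv_mem x'.2)) h2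
    apply hy
    have h3 : ∀ y : A, L (MulAut.conjNormal (x : H) y) = L (MulAut.conjNormal (x' : H) y) := fun y =>
      congrFun (congrArg (fun χ : IrrCharacter A => (χ : A → ℂ)) hxx) y
    have h4 := h3 (MulAut.conjNormal (x' : H)⁻¹ y)
    have h5 : MulAut.conjNormal (x : H) (MulAut.conjNormal (x' : H)⁻¹ y) =
        MulAut.conjNormal ((x : H) * (x' : H)⁻¹) y := by
      rw [map_mul]
      rfl
    have h6 : MulAut.conjNormal (x' : H) (MulAut.conjNormal (x' : H)⁻¹ y) = y := by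
      rw [← MulAut.mul_apply, ← map_mul, mul_inv_cancel, map_one, MulAut.one_apply]
    rw [h5, h6] at h4
    exact Units.ext h4
  obtain ⟨c, hc⟩ := exists_nat_comb (isCharacter_restrict A (isIrr_isCharacter θ.2))
  have hcF : ∀ x : X, 1 ≤ c (F x) := by
    intro x
    have h2 : classInner (fun y : A => (θ : H → ℂ) y) (F x : A → ℂ) = (c (F x) : ℂ) := by
      rw [hc, classInner_sum_nsmul_irr]
    have h3 : classInner (fun y : A => (θ : H → ℂ) y) (F x : A → ℂ) ≠ 0 := by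
      change classInner (fun y : A => (θ : H → ℂ) y) (L ∘ (MulAut.conjNormal (x : H) : MulAut A)) ≠ 0
      rw [classInner_restrict_conjNormal (isIrr_isClassFunction θ.2)]
      exact h0
    rw [h2] at h3
    exact Nat.one_le_iff_ne_zero.2 (by exact_mod_cast h3)
  have hdeg : charDegree (θ : H → ℂ) = ∑ ψ : IrrCharacter A, c ψ * charDegree (ψ : A → ℂ) := by
    have h3 := congrFun hc 1
    rw [Finset.sum_apply] at h3
    have h4 : ((charDegree (θ : H → ℂ) : ℕ) : ℂ) = ∑ ψ : IrrCharacter A, ((c ψ * charDegree (ψ : A → ℂ) : ℕ) : ℂ) := by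
      rw [← cast_deg]
      refine h3.trans (Finset.sum_congr rfl fun ψ _ => ?_)
      rw [Pi.smul_apply, nsmul_eq_mul, cast_deg, Nat.cast_mul]
    exact_mod_cast h4
  rw [hdeg]
  have hFX : Nat.card X = ∑ _x : X, 1 := by simp
  rw [hFX, ← Finset.sum_image (f := fun _ : IrrCharacter A => 1) (s := Finset.univ) (g := F) fun _ _ _ _ h => hinj h]
  refine (Finset.sum_le_sum fun ψ hψ => ?_).trans (Finset.sum_le_sum_of_subset (Finset.subset_univ _))
  obtain ⟨x, -, rfl⟩ := Finset.mem_image.1 hψ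
  have h5 : charDegree (F x : A → ℂ) = 1 := by
    have h6 : (F x : A → ℂ) 1 = 1 := by
      change L (MulAut.conjNormal (x : H) 1) = 1
      rw [map_one]
      simp [L]
    rw [cast_deg] at h6
    exact_mod_cast h6
  rw [h5, mul_one]
  exact hcF x

/-- `A ⊔ X` has an irreducible character of degree at least `m` -/
theorem Low.exists_irr {p : ℕ} {S : Type v} [Group S] [Finite S] {m : ℕ} (h : Low p S m) :
    ∃ Q : Subgroup S, IsPGroup p Q ∧ ∃ θ : IrrCharacter Q, m ≤ charDegree (θ : Q → ℂ) := by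
  obtain ⟨A, X, Z₀, h1, h2, h3, h4, ⟨z, hz, hz0, h5⟩, h6⟩ := h
  refine ⟨A ⊔ X, h1, ?_⟩
  have hA : A ≤ A ⊔ X := le_sup_left
  have hX : X ≤ A ⊔ X := le_sup_right
  have hn : (A.subgroupOf (A ⊔ X)).Normal := by
    have h7 : A ⊔ X ≤ Subgroup.normalizer (A : Set S) := by
      rw [sup_le_iff]
      refine ⟨Subgroup.le_normalizer, fun x hx => ?_⟩
      rw [Subgroup.mem_normalizer_iff]
      intro y
      refine ⟨fun hy => h2 x hx y hy, fun hy => ?_⟩
      have h8 := h2 x⁻¹ (X.inv_mem hx) _ hy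
      simpa [mul_assoc] using h8
    exact Subgroup.normal_subgroupOf_of_le_normalizer h7
  obtain ⟨lam, hl1, hl2⟩ := exists_lam (A := ↥(A.subgroupOf (A ⊔ X)))
    (fun x y => Subtype.ext (Subtype.ext (h3 _ (Subgroup.mem_subgroupOf.1 x.2) _ (Subgroup.mem_subgroupOf.1 y.2))))
    ((Z₀.subgroupOf (A ⊔ X)).subgroupOf (A.subgroupOf (A ⊔ X))) (z := ⟨⟨z, hA hz⟩, Subgroup.mem_subgroupOf.2 hz⟩)
    (fun h => hz0 (Subgroup.mem_subgroupOf.1 (Subgroup.mem_subgroupOf.1 h)))
  obtain ⟨θ, hθ⟩ := exists_irr_of_lam (A.subgroupOf (A ⊔ X)) (X.subgroupOf (A ⊔ X)) lam (by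
    intro x hx hx1
    obtain ⟨y, hy, w, hw, hxy⟩ := h5 (x : S) (Subgroup.mem_subgroupOf.1 hx) (fun h => hx1 (Subtype.ext h))
    refine ⟨⟨⟨y, hA hy⟩, Subgroup.mem_subgroupOf.2 hy⟩, fun heq => hl2 ?_⟩
    have h8 : MulAut.conjNormal x (⟨⟨y, hA hy⟩, Subgroup.mem_subgroupOf.2 hy⟩ : ↥(A.subgroupOf (A ⊔ X))) =
        ⟨⟨z, hA hz⟩, Subgroup.mem_subgroupOf.2 hz⟩ *
          (⟨⟨w, hA (h4 hw)⟩, Subgroup.mem_subgroupOf.2 (h4 hw)⟩ : ↥(A.subgroupOf (A ⊔ X))) *
          ⟨⟨y, hA hy⟩, Subgroup.mem_subgroupOf.2 hy⟩ := by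
      apply Subtype.ext
      apply Subtype.ext
      rw [MulAut.conjNormal_apply]
      change (x : S) * y * (x : S)⁻¹ = z * w * y
      rw [← hxy]
      group
    rw [h8, map_mul, map_mul, hl1 ⟨⟨w, hA (h4 hw)⟩, Subgroup.mem_subgroupOf.2 (h4 hw)⟩
      (Subgroup.mem_subgroupOf.2 (Subgroup.mem_subgroupOf.2 hw)), mul_one] at heq
    exact mul_eq_right.1 heq)
  refine ⟨θ, ?_⟩
  rwa [Nat.card_congr (Subgroup.subgroupOfEquivOfLe hX).toEquiv, h6] at hθ

/-- the degree of a constituent of a restriction is at most the degree -/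
theorem exists_over_sub {P : Type u} [Group P] [Finite P] (R : Subgroup P) (θ : IrrCharacter R) :
    ∃ χ : IrrCharacter P, charDegree (θ : R → ℂ) ≤ charDegree (χ : P → ℂ) := by
  classical
  have := Fintype.ofFinite P
  have := Fintype.ofFinite R
  have hf : Finite (IrrCharacter P) := finite_irr
  have : Fintype (IrrCharacter P) := Fintype.ofFinite _
  have hf' : Finite (IrrCharacter R) := finite_irr
  have : Fintype (IrrCharacter R) := Fintype.ofFinite _
  obtain ⟨m, hm⟩ := exists_nat_comb (Brauer.isCharacter_indFun R (isIrr_isCharacter θ.2))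
  have hne : ∃ χ : IrrCharacter P, m χ ≠ 0 := by
    by_contra hc
    push Not at hc
    have h1 := congrFun hm 1
    simp only [hc, zero_smul, Finset.sum_const_zero, Pi.zero_apply] at h1
    rw [OddOrderCharacters.IndRes.indFun_apply_one] at h1
    rcases mul_eq_zero.1 h1 with h2 | h2
    · exact Subgroup.index_ne_zero_of_finite (H := R) (by exact_mod_cast h2)
    · exact isIrr_apply_one_ne_zero θ.2 h2
  obtain ⟨χ, hχ⟩ := hne
  refine ⟨χ, ?_⟩
  have h0 : classInner (fun y : R => (χ : P → ℂ) y) (θ : R → ℂ) ≠ 0 := by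
    have h1 := Cfsg.Agent.OddOrderCharacters.Clifford.classInner_indFun R (θ : R → ℂ) (χ : P → ℂ)
      (isIrr_isClassFunction χ.2)
    rw [hm, classInner_sum_nsmul_irr] at h1
    have h2 := classInner_conj_symm (θ : R → ℂ) (fun y : R => (χ : P → ℂ) y)
    rw [← h1, map_natCast] at h2
    rw [← h2]
    exact_mod_cast hχ
  obtain ⟨c, hc⟩ := exists_nat_comb (isCharacter_restrict R (isIrr_isCharacter χ.2))
  have hcθ : 1 ≤ c θ := by
    rw [hc, classInner_sum_nsmul_irr] at h0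
    exact Nat.one_le_iff_ne_zero.2 (by exact_mod_cast h0)
  have hdeg : charDegree (χ : P → ℂ) = ∑ ψ : IrrCharacter R, c ψ * charDegree (ψ : R → ℂ) := by
    have h3 := congrFun hc 1
    rw [Finset.sum_apply] at h3
    have h4 : ((charDegree (χ : P → ℂ) : ℕ) : ℂ) = ∑ ψ : IrrCharacter R, ((c ψ * charDegree (ψ : R → ℂ) : ℕ) : ℂ) := by
      rw [← cast_deg]
      refine h3.trans (Finset.sum_congr rfl fun ψ _ => ?_)
      rw [Pi.smul_apply, nsmul_eq_mul, cast_deg, Nat.cast_mul]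
    exact_mod_cast h4
  rw [hdeg]
  refine le_trans ?_ (Finset.single_le_sum (f := fun ψ : IrrCharacter R => c ψ * charDegree (ψ : R → ℂ))
    (fun _ _ => Nat.zero_le _) (Finset.mem_univ θ))
  exact Nat.le_mul_of_pos_left _ hcθ

/-- the degrees of a subgroup of `P` are at most `p ^ a` -/
theorem le_of_hom {p a : ℕ} [hp : Fact p.Prime] {P : Type u} [Group P] [Finite P] (hcd : CD p a P) {Q : Type v} [Group Q]
    [Finite Q] (f : Q →* P) (hf : Function.Injective f) (θ : IrrCharacter Q) : charDegree (θ : Q → ℂ) ≤ p ^ a := by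
  have e : Q ≃* f.range := MonoidHom.ofInjective hf
  obtain ⟨χ, hχ⟩ := exists_over_sub f.range
    (⟨fun y => (θ : Q → ℂ) (e.symm y), isIrr_comp (e.symm : f.range →* Q) e.symm.surjective θ.2⟩ : IrrCharacter f.range)
  have h1 : charDegree (θ : Q → ℂ) ≤ charDegree (χ : P → ℂ) := by
    refine le_trans (le_of_eq ?_) hχ
    unfold charDegree
    congr 2
    exact (congrArg (θ : Q → ℂ) (map_one e.symm)).symm
  rcases hcd.1 χ with h2 | h2
  · rw [h2] at h1
    exact h1.trans (Nat.one_le_pow _ _ hp.out.pos)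
  · rw [h2] at h1
    exact h1

/-- **the lower bound** -/
theorem Low.le {p a m : ℕ} [hp : Fact p.Prime] {A : Type u} [Group A] [Finite A] {N : Subgroup A} {S : Type v} [Group S]
    [Finite S] (h : Low p S m) (e : N ≃* S) (P : Sylow p A) (hcd : CD p a ↥(P : Subgroup A)) : m ≤ p ^ a := by
  obtain ⟨Q, hQ, θ, hθ⟩ := h.exists_irr
  let g : Q →* A := N.subtype.comp ((e.symm : S →* N).comp Q.subtype)
  have hg : Function.Injective g := fun x y hxy => Subtype.ext (e.symm.injective (Subtype.ext hxy))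
  have hgR : IsPGroup p g.range := hQ.of_surjective g.rangeRestrict g.rangeRestrict_surjective
  obtain ⟨P', hP'⟩ := IsPGroup.exists_le_sylow hgR
  let f : Q →* ↥(P : Subgroup A) := ((P'.equiv P : (P' : Subgroup A) ≃* (P : Subgroup A)) : (P' : Subgroup A) →* (P : Subgroup A)).comp
    (g.codRestrict (P' : Subgroup A) fun x => hP' ⟨x, rfl⟩)
  have hf : Function.Injective f := by
    intro x y hxy
    have h1 : (g.codRestrict (P' : Subgroup A) fun x => hP' ⟨x, rfl⟩) x =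
        (g.codRestrict (P' : Subgroup A) fun x => hP' ⟨x, rfl⟩) y := (P'.equiv P).injective hxy
    exact hg (congrArg (fun z : ↥(P' : Subgroup A) => (z : A)) h1)
  exact hθ.trans (le_of_hom hcd f hf θ)

end Cfsg.Agent.H40.HT
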