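import Cfsg.Agent.H40.HT.RowPsu
import Cfsg.Agent.H652.HT.Lin
import Cfsg.Agent.H720.HT.Bridge
import Cfsg.Agent.H218.HT.DDChev
import Cfsg.Agent.H218.HT.DDD4
import Cfsg.Agent.H564.HT.DDE6t
import Cfsg.Agent.H103.HT.GThree
import Cfsg.Agent.H103.HT.LowSl
import Cfsg.Agent.H695.HT.OwnPsl
import Cfsg.Agent.H916.HT.OwnFour
import Cfsg.Agent.H408.HT.U3Own
import Cfsg.Agent.H298.HT.Ree
import Cfsg.Agent.H892.HT.Disp

/-!
# S4933, own characteristic: the box `o.own` (helper40)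

* `own_odd` : the field `OddRows.own`.
-/

set_option autoImplicit false
set_option linter.unusedSectionVars false

open Cfsg

namespace Cfsg.Agent.H40.HT

open Cfsg.Agent.H316.HT Cfsg.Agent.H720.HT

universe u

theorem simple_of_equiv {K L : Type*} [Group K] [Group L] (e : K ≃* L) [IsSimpleGroup K] : IsSimpleGroup L :=
  e.symm.isSimpleGroup

theorem three_le_card' {p : ℕ} (hp : p.Prime) (hp2 : p ≠ 2) (F : Type*) [Field F] [Fintype F] [CharP F p] :
    3 ≤ Fintype.card F := by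
  obtain ⟨n, -, hn⟩ := FiniteField.card F p
  rw [hn]
  calc 3 ≤ p := by have := hp.two_le; omega
    _ = p ^ 1 := (pow_one p).symm
    _ ≤ p ^ (n : ℕ) := Nat.pow_le_pow_right hp.pos n.pos

theorem two_ne' {p : ℕ} (hp : p.Prime) (hp2 : p ≠ 2) (F : Type*) [Field F] [CharP F p] : (2 : F) ≠ 0 := by
  intro h
  have h1 : ((2 : ℕ) : F) = 0 := by exact_mod_cast h
  rw [CharP.cast_eq_zero_iff F p] at h1
  exact hp2 ((Nat.prime_dvd_prime_iff_eq hp Nat.prime_two).1 h1)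

theorem three_ne {p : ℕ} (hp : p.Prime) (hp3 : p ≠ 3) (F : Type*) [Field F] [CharP F p] : (3 : F) ≠ 0 := by
  intro h
  have h1 : ((3 : ℕ) : F) = 0 := by exact_mod_cast h
  rw [CharP.cast_eq_zero_iff F p] at h1
  exact hp3 ((Nat.prime_dvd_prime_iff_eq hp Nat.prime_three).1 h1)

theorem q_ge_three {p : ℕ} (hp : p.Prime) (hp2 : p ≠ 2) {F : Type*} [Field F] [Fintype F] [CharP F p] {q : ℕ}
    (hF : Fintype.card F = q ^ 2) : 3 ≤ q := by
  obtain ⟨n, -, hn⟩ := FiniteField.card F p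
  rw [hF] at hn
  have h1 : p ∣ q := hp.dvd_of_dvd_pow (hn ▸ dvd_pow_self p n.ne_zero)
  have h2 : q ≠ 0 := by
    rintro rfl
    have : Fintype.card F = 0 := by rw [hF]; rfl
    exact Fintype.card_ne_zero this
  have h3 := Nat.le_of_dvd (Nat.pos_of_ne_zero h2) h1
  have := hp.two_le
  omega

theorem row_psl {p : ℕ} [hp : Fact p.Prime] (hp2 : p ≠ 2) (F : Type) [Field F] [Fintype F] [CharP F p] {n : ℕ}
    (hn : 2 ≤ n) : Row p (Matrix.ProjectiveSpecialLinearGroup (Fin n) F) := by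
  obtain rfl | h3 : n = 2 ∨ 3 ≤ n := by omega
  · exact H916.HT.Own.row_psl2
  · exact H695.HT.row_own_psl hp2 h3 (by
      rw [← Nat.card_eq_fintype_card]
      exact H103.HT.low_psl h3)

/-- **the box `o.own`** -/
theorem own_odd (p : ℕ) [hp : Fact p.Prime] (hp2 : p ≠ 2) : H892.HT.SpR Row p fun K => IsLieTypeChar p K := by
  intro K _ _ hK hna hL
  have hpr := hp.out
  rcases hL with h | h | h | h | h | h | h | h | ⟨h2, h⟩ | ⟨h2, h⟩ | ⟨h3, h⟩
  · obtain ⟨F, _, _, _, n, h1, h2, ⟨e⟩⟩ := h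
    exact row_congr e (row_psl hp2 F h1)
  · obtain ⟨F, _, _, _, m, h1, h2, ⟨e⟩⟩ := h
    obtain rfl | h3 : m = 2 ∨ 3 ≤ m := by omega
    · have := simple_of_equiv e
      exact row_congr e (row_psp4 hp2)
    · exact row_congr e (row_of_dd hpr (H652.HT.dd_psp h3))
  · obtain ⟨F, _, _, _, n, q, h1, h2, h3, ⟨e⟩⟩ := h
    obtain rfl | rfl | h5 : n = 3 ∨ n = 4 ∨ 5 ≤ n := by omega
    · exact row_congr e (H408.HT.row_psu3 h1 (q_ge_three hpr hp2 h1))
    · have := simple_of_equiv e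
      exact row_congr e (row_psu4 hp2 h1)
    · exact row_congr e (row_of_dd hpr (H652.HT.dd_psu h1 h5))
  · obtain ⟨F, _, _, _, m, h1, h2, ⟨e⟩⟩ := h
    exact row_congr e (row_of_dd hpr (H652.HT.dd_oodd (two_ne' hpr hp2 F) h1))
  · obtain ⟨F, _, _, _, m, h1, ⟨e⟩⟩ := h
    exact row_congr e (row_of_dd hpr (H652.HT.dd_oplus h1))
  · obtain ⟨F, _, _, _, m, a, b, h1, h2, ⟨e⟩⟩ := h
    exact row_congr e (row_of_dd hpr (H652.HT.dd_ominus h2 (by omega)))
  · obtain ⟨F, _, _, _, h⟩ := h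
    rcases h with ⟨hc, ⟨e⟩⟩ | ⟨⟨e⟩⟩ | ⟨⟨e⟩⟩ | ⟨⟨e⟩⟩ | ⟨⟨e⟩⟩
    · by_cases hp3 : p = 3
      · subst hp3
        exact row_congr e (H103.HT.GThree.row_G2 F)
      · classical
        obtain ⟨u, hu⟩ : ∃ u : F, u ∉ ({0, 1} : Finset F) := by
          by_contra hc'
          push Not at hc'
          have h1 : Fintype.card F ≤ ({0, 1} : Finset F).card :=
            Finset.card_le_card (s := Finset.univ) fun x _ => hc' x
          have h2 : ({0, 1} : Finset F).card ≤ 2 := Finset.card_le_two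
          omega
        rw [Finset.mem_insert, Finset.mem_singleton, not_or] at hu
        exact row_congr e (row_of_dd hpr (H218.HT.dd_G2 F (three_ne hpr hp3 F) hu.1 hu.2))
    · exact row_congr e (row_of_dd hpr (H218.HT.dd_F4 F))
    · exact row_congr e (row_of_dd hpr (H218.HT.dd_E6 F))
    · exact row_congr e (row_of_dd hpr (H218.HT.dd_E7 F))
    · exact row_congr e (row_of_dd hpr (H218.HT.dd_E8 F))
  · obtain ⟨F, _, _, _, q, hq, h⟩ := h
    rcases h with ⟨hc, ⟨e⟩⟩ | ⟨hc, ⟨e⟩⟩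
    · exact row_congr e (row_of_dd hpr (H564.HT.dd_E6t F hc))
    · exact row_congr e (row_of_dd hpr (H218.HT.D4.dd_D4t F hq hc))
  · exact absurd h2 hp2
  · exact absurd h2 hp2
  · subst h3
    exact H298.HT.row_ree K h

end Cfsg.Agent.H40.HT
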