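import Cfsg.Agent.H316.HT.Defs
import Cfsg.Agent.H857.GG.Descent
import Cfsg.Agent.CharactersDeep.MaxInduced
import Cfsg.Agent.OddOrderCharacters.Clifford
import Cfsg.Agent.OddOrderCharacters.IndRes
import Cfsg.Agent.Characters.Brauer

/-!
# S4933, own characteristic: constituents of a permutation character (helper40)

* `exists_cons` : `1_L^H` has a nontrivial constituent of degree not divisible by `p ^ b` if `p ^ b ∤ |H : L| - 1`;
* `exists_pair` : the same with a constituent `ψ ≠ 1` of its restriction to `N` (`N` normal, `N L = H`), which is a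
  constituent of `1_{L ∩ N}^N`.
-/

set_option autoImplicit false

open scoped ComplexConjugate
open Cfsg

namespace Cfsg.Agent.H40.HT

open Cfsg.Agent.Characters Cfsg.Agent.Characters.Core Cfsg.Agent.Characters.Clifford Cfsg.Agent.H316.HT

universe u

/-- the trivial character -/
noncomputable def tr (G : Type u) [Group G] : IrrCharacter G :=
  ⟨fun _ => 1, Cfsg.Agent.Blocks.Basic.isIrrCharacter_one⟩

theorem tr_apply {G : Type u} [Group G] : (tr G : G → ℂ) = fun _ => (1 : ℂ) := rfl

theorem inner_ind_one {G : Type u} [Group G] [Fintype G] (B : Subgroup G) :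
    classInner (indFun B fun _ => (1 : ℂ)) (fun _ => (1 : ℂ)) = 1 := by
  classical
  have : Fintype ↥B := Fintype.ofFinite _
  have h1 := Cfsg.Agent.OddOrderCharacters.Clifford.classInner_indFun B (fun _ => (1 : ℂ)) (fun _ => (1 : ℂ))
    (Core.isIrr_isClassFunction (Cfsg.Agent.Blocks.Basic.isIrrCharacter_one (G := G)))
  rw [h1, Core.classInner_def]
  simp

theorem isCharacter_ind {G : Type u} [Group G] [Fintype G] (B : Subgroup G) :
    IsCharacter G (indFun B fun _ => (1 : ℂ)) := by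
  have h := Brauer.isCharacter_indFun B (Linear.isCharacter_hom (1 : ↥B →* ℂˣ))
  have e : (fun b : ↥B => (((1 : ↥B →* ℂˣ) b : ℂˣ) : ℂ)) = fun _ => (1 : ℂ) := by
    funext b
    rfl
  rwa [e] at h

theorem cast_deg {G : Type u} [Group G] (χ : IrrCharacter G) : (χ : G → ℂ) 1 = (charDegree (χ : G → ℂ) : ℂ) :=
  Cfsg.Agent.Blocks.Basic.irr_one_eq_charDegree χ.2

/-- **a constituent with a small `p`-part** -/
theorem exists_cons {H : Type u} [Group H] [Fintype H] {p b : ℕ} (L : Subgroup H)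
    (hidx : ¬ p ^ b ∣ L.index - 1) : ∃ ξ : IrrCharacter H, (ξ : H → ℂ) ≠ (fun _ => 1) ∧
      classInner (indFun L fun _ => (1 : ℂ)) (ξ : H → ℂ) ≠ 0 ∧ ¬ p ^ b ∣ charDegree (ξ : H → ℂ) := by
  classical
  have hf : Finite (IrrCharacter H) := finite_irr
  have : Fintype (IrrCharacter H) := Fintype.ofFinite _
  obtain ⟨m, hm⟩ := exists_nat_comb (isCharacter_ind L)
  have hmul : ∀ ξ : IrrCharacter H, classInner (indFun L fun _ => (1 : ℂ)) (ξ : H → ℂ) = (m ξ : ℂ) := by
    intro ξ
    rw [hm, classInner_sum_nsmul_irr]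
  have h1 : m (tr H) = 1 := by
    have h2 := hmul (tr H)
    rw [tr_apply, inner_ind_one] at h2
    exact_mod_cast h2.symm
  have hdeg : (L.index : ℂ) = ∑ ξ : IrrCharacter H, (m ξ * charDegree (ξ : H → ℂ) : ℕ) := by
    have h3 := congrFun hm 1
    rw [OddOrderCharacters.IndRes.indFun_apply_one, mul_one, Finset.sum_apply] at h3
    rw [h3, Nat.cast_sum]
    refine Finset.sum_congr rfl fun ξ _ => ?_
    rw [Pi.smul_apply, nsmul_eq_mul, cast_deg, Nat.cast_mul]
  have hdeg' : L.index = ∑ ξ : IrrCharacter H, m ξ * charDegree (ξ : H → ℂ) := by exact_mod_cast hdeg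
  have h4 : L.index - 1 = ∑ ξ ∈ Finset.univ.erase (tr H), m ξ * charDegree (ξ : H → ℂ) := by
    have h5 := Finset.add_sum_erase Finset.univ (fun ξ : IrrCharacter H => m ξ * charDegree (ξ : H → ℂ))
      (Finset.mem_univ (tr H))
    have h6 : charDegree (tr H : H → ℂ) = 1 := by
      rw [tr_apply]
      unfold charDegree
      simp
    simp only [h1, h6, mul_one] at h5
    rw [hdeg', ← h5]
    simp
  by_contra hcon
  push Not at hcon
  apply hidx
  rw [h4]
  refine Finset.dvd_sum fun ξ hξ => ?_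
  have hne : (ξ : H → ℂ) ≠ fun _ => 1 := by
    intro h7
    exact (Finset.mem_erase.1 hξ).1 (Subtype.ext h7)
  by_cases h8 : m ξ = 0
  · rw [h8, zero_mul]
    exact dvd_zero _
  · exact (hcon ξ hne (by rw [hmul]; exact_mod_cast h8)).mul_left _

/-- **the constituent, with a constituent of its restriction to a normal subgroup** -/
theorem exists_pair {H : Type u} [Group H] [Fintype H] {p b : ℕ} (N : Subgroup H) [N.Normal] [Fintype N]
    (L : Subgroup H) (hNL : N ⊔ L = ⊤) (hidx : ¬ p ^ b ∣ L.index - 1) :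
    ∃ (ξ : IrrCharacter H) (ψ : IrrCharacter N), classInner (fun n : N => (ξ : H → ℂ) n) (ψ : N → ℂ) ≠ 0 ∧
      (ψ : N → ℂ) ≠ (fun _ => 1) ∧
      classInner (indFun (L.subgroupOf N) fun _ => (1 : ℂ)) (ψ : N → ℂ) ≠ 0 ∧
      ¬ p ^ b ∣ charDegree (ξ : H → ℂ) := by
  classical
  obtain ⟨ξ, h1, h2, h3⟩ := exists_cons L hidx
  have hf : Finite (IrrCharacter H) := finite_irr
  have : Fintype (IrrCharacter H) := Fintype.ofFinite _
  have hf' : Finite (IrrCharacter N) := finite_irr
  have : Fintype (IrrCharacter N) := Fintype.ofFinite _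
  have hcl : IsClassFunction ↥L fun _ => (1 : ℂ) := fun _ _ => rfl
  have hres : (fun n : N => indFun L (fun _ => (1 : ℂ)) n) = indFun (L.subgroupOf N) fun _ => (1 : ℂ) := by
    funext n
    exact Cfsg.Agent.CharactersDeep.MaxInduced.indFun_restrict N L hNL _ hcl n
  obtain ⟨m, hm⟩ := exists_nat_comb (isCharacter_ind L)
  have hmul : ∀ ξ : IrrCharacter H, classInner (indFun L fun _ => (1 : ℂ)) (ξ : H → ℂ) = (m ξ : ℂ) := by
    intro ξ
    rw [hm, classInner_sum_nsmul_irr]
  have hR : ∀ χ : IrrCharacter H, IsCharacter N fun n : N => (χ : H → ℂ) n := fun χ =>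
    isCharacter_comp N.subtype (isIrr_isCharacter χ.2)
  have hnat : ∀ (χ : IrrCharacter H) (ψ : IrrCharacter N), ∃ k : ℕ,
      classInner (fun n : N => (χ : H → ℂ) n) (ψ : N → ℂ) = k := fun χ ψ =>
    classInner_isNat (hR χ) (isIrr_isCharacter ψ.2)
  choose k hk using hnat
  have htot : ∀ ψ : IrrCharacter N, classInner (indFun (L.subgroupOf N) fun _ => (1 : ℂ)) (ψ : N → ℂ) =
      ((∑ χ : IrrCharacter H, m χ * k χ ψ : ℕ) : ℂ) := by
    intro ψ
    rw [← hres]
    have e1 : (fun n : N => indFun L (fun _ => (1 : ℂ)) n) =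
        ∑ χ : IrrCharacter H, (m χ : ℂ) • fun n : N => (χ : H → ℂ) n := by
      funext n
      rw [hm, Finset.sum_apply, Finset.sum_apply]
      refine Finset.sum_congr rfl fun χ _ => ?_
      rw [Pi.smul_apply, Pi.smul_apply, nsmul_eq_mul, smul_eq_mul]
    rw [e1, classInner_sum_left, Nat.cast_sum]
    refine Finset.sum_congr rfl fun χ _ => ?_
    rw [classInner_smul_left, hk, Nat.cast_mul]
  have hmξ : 0 < m ξ := by
    rw [hmul] at h2
    exact Nat.pos_of_ne_zero (by exact_mod_cast h2)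
  -- a constituent of the restriction
  obtain ⟨ψ, hψ⟩ : ∃ ψ : IrrCharacter N, k ξ ψ ≠ 0 := by
    by_contra hc
    push Not at hc
    obtain ⟨c, hc'⟩ := exists_nat_comb (hR ξ)
    have h4 : ∀ ψ : IrrCharacter N, c ψ = 0 := by
      intro ψ
      have h5 := hk ξ ψ
      rw [hc', classInner_sum_nsmul_irr, hc ψ] at h5
      exact_mod_cast h5
    have h6 := congrFun hc' 1
    simp only [h4, zero_smul, Finset.sum_const_zero, Pi.zero_apply] at h6
    exact isIrr_apply_one_ne_zero ξ.2 (by simpa using h6)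
  refine ⟨ξ, ψ, ?_, ?_, ?_, h3⟩
  · rw [hk]
    exact_mod_cast hψ
  · intro hone
    have hψ1 : ψ = tr N := Subtype.ext hone
    have h5 := htot (tr N)
    rw [tr_apply, inner_ind_one] at h5
    have h6 : (∑ χ : IrrCharacter H, m χ * k χ (tr N)) = 1 := by exact_mod_cast h5.symm
    have hk1 : k (tr H) (tr N) = 1 := by
      have h7 := hk (tr H) (tr N)
      have h8 : classInner (fun n : N => (tr H : H → ℂ) n) (tr N : N → ℂ) = 1 :=
        classInner_irr_self (tr N).2
      rw [h8] at h7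
      exact_mod_cast h7.symm
    have hm1 : m (tr H) = 1 := by
      have h2 := hmul (tr H)
      rw [tr_apply, inner_ind_one] at h2
      exact_mod_cast h2.symm
    have hne : ξ ≠ tr H := fun h => h1 (by rw [h]; rfl)
    have h9 : m (tr H) * k (tr H) (tr N) + m ξ * k ξ (tr N) ≤ ∑ χ : IrrCharacter H, m χ * k χ (tr N) := by
      rw [← Finset.sum_pair (f := fun χ => m χ * k χ (tr N)) hne.symm]
      exact Finset.sum_le_sum_of_subset (Finset.subset_univ _)
    rw [h6, hm1, hk1] at h9
    rw [hψ1] at hψ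
    have h10 : 0 < m ξ * k ξ (tr N) := Nat.mul_pos hmξ (Nat.pos_of_ne_zero hψ)
    omega
  · rw [htot]
    have h11 : m ξ * k ξ ψ ≤ ∑ χ : IrrCharacter H, m χ * k χ ψ :=
      Finset.single_le_sum (f := fun χ => m χ * k χ ψ) (fun _ _ => Nat.zero_le _) (Finset.mem_univ ξ)
    have h12 : 0 < m ξ * k ξ ψ := Nat.mul_pos hmξ (Nat.pos_of_ne_zero hψ)
    have h13 : (∑ χ : IrrCharacter H, m χ * k χ ψ) ≠ 0 := by omega
    exact_mod_cast h13

end Cfsg.Agent.H40.HT
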