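import Cfsg.Agent.H40.HT.Own
import Cfsg.Agent.H40.HT.Idx
import Cfsg.Agent.H40.OU.Perm
import Cfsg.Agent.H992.R2.Restr
import Cfsg.Agent.H117.ParIdx
import Cfsg.Agent.H690.OwnD.Mem
import Cfsg.Agent.H76.OC.IndInv
import Cfsg.Agent.H451.Tor.Edge

/-!
# S4933, own characteristic: the row from a frame (helper40)

* `row_frame` : an adjoint frame `R`, `D`, `hT`, `MultOne`, `hN` on `Y`, `S` simple, normal in `Y`, `U ≤ S`, a node `i`
  fixed by the diagram permutations of `p`-power order which preserve the bonds and the orders of the root groups, and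
  `Low p S |X_i|`: `Row p S`.
-/

set_option autoImplicit false
set_option linter.unusedSectionVars false

open scoped ComplexConjugate
open Cfsg

namespace Cfsg.Agent.H40.HT

open Cfsg.Agent.Characters
open Cfsg.Agent.H148.GG Cfsg.Agent.H743.GG Cfsg.Agent.H40.OC Cfsg.Agent.H641.Gow Cfsg.Agent.H53.HC
  Cfsg.Agent.H316.HT

open CoxeterSystem Cfsg.Agent.ChevalleyStructure.CoxeterGeom Cfsg.Agent.Tits.Roots Cfsg.Agent.Tits.Core
  Cfsg.Agent.Tits.Exchange Cfsg.Agent.Nodes.Reps Cfsg.Agent.Nodes.BNOf Cfsg.Agent.Nodes.StabComb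
  Cfsg.Agent.Nodes.Bruhat Cfsg.Agent.Nodes.OppDec Cfsg.Agent.Nodes.LeviDec

universe u v

theorem GoodOn.mono {p a b : ℕ} {M : Ideal AlgInt} {A : Type u} [Group A] {N : Subgroup A} (hab : b ≤ a)
    (h : GoodOn p b M N) : GoodOn p a M N := by
  obtain ⟨χ, h1, h2, h3, h4⟩ := h
  exact ⟨χ, h1, h2, h3, h4.trans hab⟩

/-- the condition on the diagram, at the prime `p` -/
def FixNode {I : Type*} (p : ℕ) (M : CoxeterMatrix I) (c : I → ℕ) (i : I) : Prop :=
  ∀ σ : Equiv.Perm I, (∀ j k, M (σ j) (σ k) = M j k) → (∀ j, c (σ j) = c j) → (∃ k, σ ^ p ^ k = 1) → σ i = i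

/-- the automorphism of `S` induced by `x ∈ A`, `e : N ≃* S` -/
noncomputable def autOf {A : Type u} [Group A] {N : Subgroup A} [N.Normal] {S : Type v} [Group S] (e : N ≃* S) :
    A →* MulAut S where
  toFun x := (e.symm.trans (MulAut.conjNormal x : MulAut N)).trans e
  map_one' := by
    ext y
    simp
  map_mul' x y := by
    ext z
    simp [MulAut.mul_apply]

theorem autOf_apply {A : Type u} [Group A] {N : Subgroup A} [N.Normal] {S : Type v} [Group S] (e : N ≃* S) (x : A) (y : S) :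
    autOf e x y = e (MulAut.conjNormal x (e.symm y)) := rfl

variable {I W : Type*} {Y : Type u} [Fintype I] [DecidableEq I] [Group W] [Group Y] {M : CoxeterMatrix I}
  {cs : CoxeterSystem M W} {A : I → I → ℤ} {h : IsCartan M A} {p : ℕ} {T : Subgroup Y} {n : I → Y}
  {X : (I → ℤ) → Subgroup Y} {F : I → Type*} [∀ i, Field (F i)]

/-- **the class of the maximal parabolic subgroup is stable** -/
theorem stable [Finite W] [Finite Y] [hp : Fact p.Prime] (R : RGD cs h p T n X) (hG : GG cs h T X = ⊤)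
    {S : Subgroup Y} [S.Normal] [IsSimpleGroup S] (hUS : UU cs h X ≤ S) {i : I}
    (hσ : FixNode p M (fun j => Nat.card (X (sr j))) i) {B : Subgroup (MulAut S)} (hB : IsPGroup p B) :
    ∀ b ∈ B, ∃ s : S, ∀ y : S, y ∈ (PJ cs h T X {i}ᶜ).subgroupOf S ↔ s * b y * s⁻¹ ∈ (PJ cs h T X {i}ᶜ).subgroupOf S := by
  have : Nonempty I := ⟨i⟩
  obtain ⟨n', -, RS, hGS, hBS, hPS⟩ := H992.R2.rgd_restr R hG hUS
  obtain ⟨s, hs⟩ := H40.R2.exists_conj_perm' RS hGS hB
  intro b hb
  obtain ⟨β, hβ, -, σ, h1, h2, h3, h4, h5⟩ := hs b hb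
  have hX : ∀ j : I, Nat.card ↥((X (sr j)).subgroupOf S) = Nat.card (X (sr j)) := fun j =>
    Nat.card_congr (Subgroup.subgroupOfEquivOfLe (H151.OC.X_le_of_U_le R hUS (isRoot_sr cs h j))).toEquiv
  have hi : σ i = i := hσ σ h2 (fun j => by
    have h6 := h3 j
    rw [hX, hX] at h6
    exact h6) h4
  have h6 := h5 {i}ᶜ
  have h7 : σ '' ({i}ᶜ : Set I) = {i}ᶜ := by
    rw [Set.image_compl_eq σ.bijective, Set.image_singleton, hi]
  rw [h7, hPS] at h6
  refine ⟨s * b s⁻¹, fun x => ?_⟩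
  have : Fintype S := Fintype.ofFinite S
  have h9 := H76.OC.mem_iff_of_map h6 x
  rw [← h9, hβ]
  have h8 : (MulAut.conj s * b * (MulAut.conj s)⁻¹) x = s * b s⁻¹ * b x * (s * b s⁻¹)⁻¹ := by
    simp only [MulAut.mul_apply, MulAut.conj_apply, MulAut.conj_inv_apply, map_mul, map_inv, mul_inv_rev, inv_inv,
      mul_assoc, inv_mul_cancel_left]
  rw [h8]

/-- `1_K` is a constituent-wise part of `1_B` for `B ≤ K` -/
theorem inner_ind_mono {G : Type u} [Group G] [Fintype G] {B K : Subgroup G} (hBK : B ≤ K) (ψ : IrrCharacter G)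
    (hψ : classInner (indFun K fun _ => (1 : ℂ)) (ψ : G → ℂ) ≠ 0) :
    classInner (indFun B fun _ => (1 : ℂ)) (ψ : G → ℂ) ≠ 0 := by
  classical
  have : Fintype B := Fintype.ofFinite _
  have : Fintype K := Fintype.ofFinite _
  have hf : Finite (IrrCharacter K) := Core.finite_irr
  have : Fintype (IrrCharacter K) := Fintype.ofFinite _
  have e1 := Cfsg.Agent.OddOrderCharacters.Clifford.classInner_indFun K (fun _ => (1 : ℂ)) (ψ : G → ℂ)
    (Core.isIrr_isClassFunction ψ.2)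
  have e2 := Cfsg.Agent.OddOrderCharacters.Clifford.classInner_indFun B (fun _ => (1 : ℂ)) (ψ : G → ℂ)
    (Core.isIrr_isClassFunction ψ.2)
  rw [e1] at hψ
  rw [e2]
  -- multiplicities in the restriction to `K`
  obtain ⟨c, hc⟩ := Core.exists_nat_comb (Clifford.isCharacter_restrict K (Core.isIrr_isCharacter ψ.2))
  have h1 : classInner (fun k : K => (ψ : G → ℂ) k) (tr K : K → ℂ) ≠ 0 := by
    intro h
    apply hψ
    have h2 := Core.classInner_conj_symm (fun k : K => (ψ : G → ℂ) k) (tr K : K → ℂ)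
    rw [h, map_zero] at h2
    exact h2.symm
  have h2 : c (tr K) ≠ 0 := by
    intro h
    apply h1
    rw [hc, Core.classInner_sum_nsmul_irr, h, Nat.cast_zero]
  -- restriction to `B`
  have hR : ∀ χ : IrrCharacter K, IsCharacter B fun b : B => (χ : K → ℂ) ⟨b, hBK b.2⟩ := fun χ =>
    Core.isCharacter_comp (Subgroup.inclusion hBK) (Core.isIrr_isCharacter χ.2)
  have hnat : ∀ χ : IrrCharacter K, ∃ k : ℕ,
      classInner (fun _ : B => (1 : ℂ)) (fun b : B => (χ : K → ℂ) ⟨b, hBK b.2⟩) = k := fun χ =>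
    Core.classInner_isNat (Core.isIrr_isCharacter (tr B).2) (hR χ)
  choose k hk using hnat
  have e3 : (fun b : B => (ψ : G → ℂ) b) = ∑ η : IrrCharacter K, fun b : B => (c η : ℂ) * (η : K → ℂ) ⟨b, hBK b.2⟩ := by
    funext b
    have h3 := congrFun hc ⟨(b : G), hBK b.2⟩
    rw [Finset.sum_apply] at h3 ⊢
    refine h3.trans (Finset.sum_congr rfl fun η _ => ?_)
    rw [Pi.smul_apply, nsmul_eq_mul]
  rw [e3, Core.classInner_sum_right]
  have h4 : ∀ η : IrrCharacter K, classInner (fun _ : B => (1 : ℂ)) (fun b : B => (c η : ℂ) * (η : K → ℂ) ⟨b, hBK b.2⟩) =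
      ((c η * k η : ℕ) : ℂ) := by
    intro η
    have h5 := Core.classInner_smul_right (c η : ℂ) (fun _ : B => (1 : ℂ)) (fun b : B => (η : K → ℂ) ⟨b, hBK b.2⟩)
    rw [Complex.conj_natCast, hk] at h5
    rw [Nat.cast_mul, ← h5]
    rfl
  rw [Finset.sum_congr rfl fun η _ => h4 η, ← Nat.cast_sum]
  have h6 : k (tr K) = 1 := by
    have h7 := hk (tr K)
    have h8 : classInner (fun _ : B => (1 : ℂ)) (fun b : B => (tr K : K → ℂ) ⟨b, hBK b.2⟩) = 1 :=
      Core.classInner_irr_self (tr B).2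
    rw [h8] at h7
    exact_mod_cast h7.symm
  have h9 : c (tr K) * k (tr K) ≤ ∑ η : IrrCharacter K, c η * k η :=
    Finset.single_le_sum (f := fun η => c η * k η) (fun _ _ => Nat.zero_le _) (Finset.mem_univ _)
  rw [h6, mul_one] at h9
  have h10 : (∑ η : IrrCharacter K, c η * k η) ≠ 0 := by omega
  exact_mod_cast h10

theorem deg_sq_le {Q : Type v} [Group Q] [Finite Q] (θ : IrrCharacter Q) :
    charDegree (θ : Q → ℂ) ^ 2 ≤ Nat.card Q := by
  classical
  have := Fintype.ofFinite Q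
  have h1 := Core.classInner_irr_self θ.2
  rw [Core.classInner_self_eq_ofReal] at h1
  have h2 : (Nat.card Q : ℝ)⁻¹ * ∑ g : Q, Complex.normSq ((θ : Q → ℂ) g) = 1 := by exact_mod_cast h1
  have h3 : (0 : ℝ) < Nat.card Q := by exact_mod_cast Nat.card_pos
  rw [inv_mul_eq_iff_eq_mul₀ h3.ne', mul_one] at h2
  have h4 : Complex.normSq ((θ : Q → ℂ) 1) ≤ ∑ g : Q, Complex.normSq ((θ : Q → ℂ) g) :=
    Finset.single_le_sum (f := fun g => Complex.normSq ((θ : Q → ℂ) g)) (fun g _ => Complex.normSq_nonneg _)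
      (Finset.mem_univ 1)
  rw [cast_deg, Complex.normSq_natCast, h2] at h4
  have h5 : ((charDegree (θ : Q → ℂ) * charDegree (θ : Q → ℂ) : ℕ) : ℝ) ≤ (Nat.card Q : ℝ) := by
    push_cast
    exact h4
  rw [sq]
  exact_mod_cast h5

theorem Low.lt_factorization {p f : ℕ} [hp : Fact p.Prime] {S : Type v} [Group S] [Finite S] (hf : f ≠ 0)
    (h : Low p S (p ^ f)) : f < (Nat.card S).factorization p := by
  obtain ⟨Q, hQ, θ, hθ⟩ := h.exists_irr
  obtain ⟨k, hk⟩ := IsPGroup.iff_card.1 hQ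
  have h1 : (p ^ f) ^ 2 ≤ p ^ k := by
    rw [← hk]
    exact (Nat.pow_le_pow_left hθ 2).trans (deg_sq_le θ)
  rw [← pow_mul] at h1
  have h2 : f * 2 ≤ k := (Nat.pow_le_pow_iff_right hp.out.one_lt).1 h1
  have h3 : p ^ k ∣ Nat.card S := hk ▸ Subgroup.card_subgroup_dvd_card Q
  have h4 : k ≤ (Nat.card S).factorization p := (hp.out.pow_dvd_iff_le_factorization Nat.card_pos.ne').1 h3
  omega

/-- **the row from a frame** -/
theorem row_frame [Finite W] [Finite Y] [∀ i, Finite (F i)] [hp : Fact p.Prime] (R : RGD cs h p T n X) (D : Adj T X F)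
    (hG : GG cs h T X = ⊤) (hT : ∀ t : T, (∀ i, D.a i t = 1) → t = 1) (hm : MultOne cs h T X)
    (hN : ∀ f : ↥(UU cs h X) →* ℂˣ, ∀ u, (∀ i, co R D i u = 1) → f u = 1)
    {S : Subgroup Y} [S.Normal] [hS : IsSimpleGroup S] (hL : IsLieTypeChar p S) (hUS : UU cs h X ≤ S) {i : I}
    (hσ : FixNode p M (fun j => Nat.card (X (sr j))) i) (hlow : Low p S (Nat.card (X (sr i)))) : Row p S := by
  classical
  intro A₀ _ _ N _ ⟨e⟩ hC Mi hM P a ha hcd
  have := Fintype.ofFinite Y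
  have := Fintype.ofFinite S
  obtain ⟨n', -, RS, hGS, hBS, hPS⟩ := H992.R2.rgd_restr R hG hUS
  have hX : ∀ j : I, Nat.card ↥((X (sr j)).subgroupOf S) = Nat.card (X (sr j)) := fun j =>
    Nat.card_congr (Subgroup.subgroupOfEquivOfLe (H151.OC.X_le_of_U_le R hUS (isRoot_sr cs h j))).toEquiv
  obtain ⟨b, hb⟩ : ∃ b, Nat.card (X (sr i)) = p ^ b := IsPGroup.iff_card.1 (R.pgrp' (isRoot_sr cs h i))
  have hba : b ≤ a := by
    have h1 := hlow.le e P hcd
    rw [hb] at h1
    exact (Nat.pow_le_pow_iff_right hp.out.one_lt).1 h1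
  have hpX' : ∀ j : I, p ∣ Nat.card (X (sr j)) := by
    intro j
    obtain ⟨k, hk⟩ : ∃ k, Nat.card (X (sr j)) = p ^ k := IsPGroup.iff_card.1 (R.pgrp' (isRoot_sr cs h j))
    obtain ⟨x, hx, hx1⟩ := Cfsg.Agent.H451.Tor.Edge.exists_ne_one R (isRoot_sr cs h j)
    have hk0 : k ≠ 0 := by
      rintro rfl
      rw [pow_zero] at hk
      have h1 := Subgroup.card_eq_one.1 hk
      rw [h1, Subgroup.mem_bot] at hx
      exact hx1 hx
    rw [hk]
    exact dvd_pow_self p hk0
  have hpX : ∀ j : I, p ∣ Nat.card ↥((X (sr j)).subgroupOf S) := by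
    intro j
    rw [hX]
    exact hpX' j
  have hb0 : b ≠ 0 := by
    rintro rfl
    have h1 := hpX' i
    rw [hb, pow_zero] at h1
    exact hp.out.one_lt.ne' (Nat.dvd_one.1 h1)
  have hvS : b + 1 ≤ (Nat.card S).factorization p := Low.lt_factorization hb0 (hb ▸ hlow)
  refine GoodOn.mono hba ?_
  refine good_of_perm hM N e P ((PJ cs h T X {i}ᶜ).subgroupOf S) ?_ ?_ ?_ ?_ ?_
  · intro x hx
    have hB : IsPGroup p ((P : Subgroup A₀).map (autOf e)) := P.2.map _
    exact stable R hG hUS hσ hB (autOf e x) ⟨x, hx, rfl⟩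
  · intro s hs
    rw [← hPS, ← H117.ParIdx.normalizer_PJ RS hGS {i}ᶜ, Subgroup.mem_normalizer_iff, hPS]
    exact hs
  · have h1 := not_dvd_index RS hp.out hGS hpX i
    rw [hX, hb, hPS] at h1
    rw [pow_succ, mul_comm]
    exact h1
  · intro _ ψ hψ1 hψ
    by_contra hd
    refine hψ1 (H40.OU.eq_one R D hG hT hm hN S hUS ψ.2 hd ?_)
    refine inner_ind_mono (fun x hx => ?_) ψ (by convert hψ)
    exact B_le_PJ hx
  · intro ψ hψ
    by_contra hc
    exact hψ ((pow_dvd_pow p hvS).trans (H690.OwnD.dz_own hL hM hc))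

end Cfsg.Agent.H40.HT
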