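import Cfsg.Agent.H40.HT.Frame
import Cfsg.Agent.H396.PC.MultSix
import Cfsg.Agent.H40.Ch.Data
import Cfsg.Agent.H845.OC.SpData
import Cfsg.Agent.H103.HT.LowSp
import Cfsg.Agent.OddHalf.Known
import Cfsg.Agent.S4613

/-!
# S4933, own characteristic: the row of `PSp_4(q)`, `q` odd (helper40)

* `row_data` : `row_frame` for the adjoint data of helper928;
* `row_psp4` : `Row p (PSp 2 F)` for `p` odd.
-/

set_option autoImplicit false
set_option linter.unusedSectionVars false

open Cfsg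

namespace Cfsg.Agent.H40.HT

open Cfsg Cfsg.Agent.H148.GG Cfsg.Agent.H40.OC Cfsg.Agent.H928.Ad Cfsg.Agent.H40.Ch
  Cfsg.Agent.H316.HT Cfsg.Agent.H396.PC

open CoxeterSystem Cfsg.Agent.ChevalleyStructure.CoxeterGeom Cfsg.Agent.Tits.Roots Cfsg.Agent.Tits.Core
  Cfsg.Agent.Nodes.Reps Cfsg.Agent.Nodes.BNOf Cfsg.Agent.Nodes.Bruhat Cfsg.Agent.Nodes.RGDLib
open Cfsg.Agent.Omega.EH3.Kf.Lev (CommGen)

universe u v

/-- `Row` is invariant under isomorphism -/
theorem row_congr {p : ℕ} {S T : Type*} [Group S] [Group T] (e : S ≃* T) (h : Row p T) : Row p S := by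
  intro A _ _ N _ ⟨e'⟩ hC M hM P a ha hcd
  exact h A N ⟨e'.trans e⟩ hC M hM P a ha hcd

/-- a permutation of two points of odd order is the identity -/
theorem fixNode_two {p : ℕ} [hp : Fact p.Prime] (hp2 : p ≠ 2) (M : CoxeterMatrix (Fin 2)) (c : Fin 2 → ℕ) (i : Fin 2) :
    FixNode p M c i := by
  rintro σ - - ⟨k, hk⟩
  have h0 : ∀ τ : Equiv.Perm (Fin 2), τ ^ 2 = 1 := by decide
  have h1 := h0 σ
  have h2 : Nat.Coprime 2 (p ^ k) := ((Nat.coprime_primes Nat.prime_two hp.out).2 hp2.symm).pow_right k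
  have h3 : σ = 1 := by
    rw [← orderOf_eq_one_iff]
    have := Nat.dvd_gcd (orderOf_dvd_of_pow_eq_one h1) (orderOf_dvd_of_pow_eq_one hk)
    rw [h2.gcd_eq_one] at this
    exact Nat.dvd_one.1 this
  rw [h3]
  rfl

variable {I W : Type*} {Y : Type u} [Fintype I] [DecidableEq I] [Group W] [Group Y] {M : CoxeterMatrix I}
  {cs : CoxeterSystem M W} {A : I → I → ℤ} {h : IsCartan M A} {p : ℕ} {T : Subgroup Y} {n : I → Y}
  {X : (I → ℤ) → Subgroup Y} {K : (I → ℤ) → Type v} [∀ z, Field (K z)] {x : ∀ z, K z → Y}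

/-- **the row from adjoint data** -/
theorem row_data [Finite W] [Fintype Y] [∀ i : I, Finite (K (sr i))] [IsSimpleGroup Y] [hp : Fact p.Prime]
    {D : Subgroup (MulAut Y)} (H : Data cs h p T n X x D)
    (hC : CommGen cs h X) {φ : ↥(Gad D) → ↥(Gad D)} (hφ : H92.GG.Anti cs h (Tad D) (Xad X D) φ)
    (hL : IsLieTypeChar p Y) {i : I}
    (hσ : FixNode p M (fun j => Nat.card (K (sr j))) i) (hlow : Low p Y (Nat.card (K (sr i)))) : Row p Y := by
  classical
  have A := H.adj
  have R : RGD cs h p (Tad D) (fun i => emb D (n i)) (Xad X D) := A.rgd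
  let P := par A.sys A.full
  have hcomm : ∀ s ∈ Tad D, ∀ t ∈ Tad D, s * t = t * s := fun s hs t ht => A.comm s hs t ht
  have hC' : CommGen cs h (Xad X D) := by
    have h1 : Xad X D = fun z => (X z).map (emb D) := funext fun z => Xad_eq X D z
    rw [h1]
    exact H969.TT.DichIso.map_commGen (emb D) hC
  have hN := lin_of_commGen R hC' P.adj
  have hT := faithful R A.gen hcomm A.cen P.adj
  have hUS : UU cs h (Xad X D) ≤ (emb D).range := by
    rw [← H.G1']
    exact RGD.Sup_mono fun x hx => hx.1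
  have hn : (emb D).range.Normal := by
    constructor
    rintro _ ⟨y, rfl⟩ g
    refine ⟨(g : MulAut Y) y, Subtype.ext ?_⟩
    exact (mul_conj_inv (g : MulAut Y) y).symm
  have e : Y ≃* ↥(emb D).range := MonoidHom.ofInjective H.inj
  have : Fintype ↥(Gad D) := Fintype.ofFinite _
  have : Fintype ↥(emb D).range := Fintype.ofFinite _
  have hs : IsSimpleGroup ↥(emb D).range := e.symm.isSimpleGroup
  have hm : Cfsg.Agent.H743.GG.MultOne cs h (Tad D) (Xad X D) :=
    multOne' R P.adj hφ fun i => (P.e i).symm.injective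
  have hcard : ∀ j : I, Nat.card (Xad X D (sr j)) = Nat.card (K (sr j)) := fun j =>
    (Nat.card_congr (P.e j).toEquiv).symm
  refine row_congr e ?_
  refine row_frame R P.adj A.gen hT hm hN (OddHalf.Known.isLieTypeChar_congr e hL) hUS (i := i) ?_ ?_
  · intro σ h1 h2 h3
    refine hσ σ h1 (fun j => ?_) h3
    exact (hcard (σ j)).symm.trans ((h2 j).trans (hcard j))
  · rw [hcard]
    exact H103.HT.Low.map hlow e.toMonoidHom fun g _ hg => e.injective (hg.trans (map_one e).symm)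

section psp

variable {F : Type} [Field F] [Fintype F] {p : ℕ} [hp : Fact p.Prime] [CharP F p]

/-- **the row of `PSp_4(q)`, `q` odd** -/
theorem row_psp4 (hp2 : p ≠ 2) [IsSimpleGroup (PSp 2 F)] : Row p (PSp 2 F) := by
  have h3 : 3 ≤ Fintype.card F := by
    have h1 : 1 < Fintype.card F := Fintype.one_lt_card
    have hF : Odd (Fintype.card F) := by
      obtain ⟨k, -, hk⟩ := FiniteField.card F p
      rw [hk]
      exact (hp.out.odd_of_ne_two hp2).pow
    obtain ⟨k, hk⟩ := hF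
    omega
  have hL : IsLieTypeChar p (PSp 2 F) := Or.inr (Or.inl ⟨F, inferInstance, inferInstance, inferInstance, 2, le_rfl,
    fun _ => h3, ⟨MulEquiv.refl _⟩⟩)
  have h2 : (2 : F) ≠ 0 := by
    intro h
    have h1 : ((2 : ℕ) : F) = 0 := by exact_mod_cast h
    rw [CharP.cast_eq_zero_iff F p] at h1
    exact hp2 ((Nat.prime_dvd_prime_iff_eq hp.out Nat.prime_two).1 h1)
  have : Finite (PSp 2 F) := Quotient.finite _
  have : Fintype (PSp 2 F) := Fintype.ofFinite _
  have hK : ∀ b : Bool, Nat.card (H553.AF.KB F F b) = Nat.card F := by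
    intro b
    cases b <;> rfl
  have : Finite (CoxeterMatrix.B 2).Group := Cfsg.Agent.Nodes.TypeC.finite_W (CoxeterMatrix.B 2).toCoxeterSystem
  obtain ⟨φ, -, hφ⟩ := H553.AF.PSp.anti (F := F) (p := p) (m := 2) (CoxeterMatrix.B 2).toCoxeterSystem
  exact row_data (H553.AF.PSp.data (F := F) (p := p) (m := 2) (CoxeterMatrix.B 2).toCoxeterSystem)
    (H845.OC.Sp.commGen h2 (CoxeterMatrix.B 2).toCoxeterSystem) hφ hL (i := 0) (fixNode_two hp2 _ _ _)
    ((hK _).symm ▸ H103.HT.low_psp4 (F := F) (p := p))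

end psp

end Cfsg.Agent.H40.HT
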